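import Groth.Agent.EtGlueLib.Flat
import Groth.Agent.IndEtLib.WContract
import Mathlib.RingTheory.Flat.FaithfullyFlat.Algebra
import Mathlib.RingTheory.Spectrum.Prime.RingHom
import Mathlib.RingTheory.Ideal.GoingUp

/-!
Fibre products of rings `B ×_C A` with `A → C` surjective and `B → C` finite flat injective.
-/

set_option autoImplicit false

universe u

open TensorProduct

namespace Groth.Agent.PushoutRing

variable {R A B C : Type u} [CommRing R] [CommRing A] [CommRing B] [CommRing C]
  [Algebra R A] [Algebra R B] [Algebra R C] (f : B →ₐ[R] C) (g : A →ₐ[R] C)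

abbrev P : Subalgebra R (B × A) := AlgHom.equalizer (f.comp (AlgHom.fst R B A)) (g.comp (AlgHom.snd R B A))

/-- The difference map. -/
noncomputable def diff : B × A →ₗ[R] C :=
  f.toLinearMap ∘ₗ LinearMap.fst R B A - g.toLinearMap ∘ₗ LinearMap.snd R B A

theorem diff_surjective (hg : Function.Surjective g) : Function.Surjective (diff f g) := fun c => by
  obtain ⟨a, ha⟩ := hg (-c)
  exact ⟨(0, a), by simp [diff, ha]⟩

theorem diff_exact : Function.Exact (P f g).val.toLinearMap (diff f g) := fun y => by
  constructor
  · intro h
    refine ⟨⟨y, ?_⟩, rfl⟩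
    change f y.1 = g y.2
    exact sub_eq_zero.1 h
  · rintro ⟨⟨y, hy⟩, rfl⟩
    exact sub_eq_zero.2 hy

theorem flat [Module.Flat R A] [Module.Flat R B] [Module.Flat R C] (hg : Function.Surjective g) :
    Module.Flat R (P f g) :=
  haveI : Module.Flat R (B × A) := IndEtLib.flat_prod
  EtGlueLib.flat_of_exact (F := B × A) (G := C) (P f g).val.toLinearMap Subtype.val_injective (diff f g)
    (diff_surjective f g hg) (diff_exact f g)

variable (R' : Type u) [CommRing R'] [Algebra R R']

theorem prodRight_lTensor (x : R' ⊗[R] ↥(P f g)) :
    TensorProduct.prodRight R R R' B A ((P f g).val.toLinearMap.lTensor R' x) =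
      (Algebra.TensorProduct.map (AlgHom.id R' R') ((AlgHom.fst R B A).comp (P f g).val) x,
       Algebra.TensorProduct.map (AlgHom.id R' R') ((AlgHom.snd R B A).comp (P f g).val) x) := by
  induction x using TensorProduct.induction_on with
  | zero => simp [Prod.ext_iff]
  | tmul r p => simp
  | add a b ha hb => simp [map_add, ha, hb]

theorem diff_lTensor (z : R' ⊗[R] (B × A)) :
    (diff f g).lTensor R' z =
      Algebra.TensorProduct.map (AlgHom.id R' R') f (TensorProduct.prodRight R R R' B A z).1 -
      Algebra.TensorProduct.map (AlgHom.id R' R') g (TensorProduct.prodRight R R R' B A z).2 := by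
  induction z using TensorProduct.induction_on with
  | zero => simp
  | tmul r p => simp [diff, tmul_sub]
  | add a b ha hb => simp only [map_add, Prod.fst_add, Prod.snd_add, ha, hb]; abel

theorem exists_lift [Module.Flat R C] (hg : Function.Surjective g) (b : R' ⊗[R] B) (a : R' ⊗[R] A)
    (h : Algebra.TensorProduct.map (AlgHom.id R' R') f b = Algebra.TensorProduct.map (AlgHom.id R' R') g a) :
    ∃ x : R' ⊗[R] ↥(P f g),
      Algebra.TensorProduct.map (AlgHom.id R' R') ((AlgHom.fst R B A).comp (P f g).val) x = b ∧
      Algebra.TensorProduct.map (AlgHom.id R' R') ((AlgHom.snd R B A).comp (P f g).val) x = a := by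
  obtain ⟨z, hz⟩ := (TensorProduct.prodRight R R R' B A).surjective (b, a)
  have h0 : (diff f g).lTensor R' z = 0 := by rw [diff_lTensor, hz, h, sub_self]
  obtain ⟨x, hx⟩ := ((lTensor_exact R' (diff_exact f g) (diff_surjective f g hg)) z).1 h0
  have h2 := prodRight_lTensor f g R' x
  rw [hx, hz] at h2
  exact ⟨x, (congrArg Prod.fst h2).symm, (congrArg Prod.snd h2).symm⟩

theorem snd_injective [Module.Flat R C] (hg : Function.Surjective g)
    (hf : Function.Injective (Algebra.TensorProduct.map (AlgHom.id R' R') f)) :
    Function.Injective (Algebra.TensorProduct.map (AlgHom.id R' R') ((AlgHom.snd R B A).comp (P f g).val)) := by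
  refine (injective_iff_map_eq_zero _).2 fun x hx => ?_
  have h2 := prodRight_lTensor f g R' x
  rw [hx] at h2
  have h3 := diff_lTensor f g R' ((P f g).val.toLinearMap.lTensor R' x)
  rw [h2, map_zero, sub_zero, (lTensor_exact R' (diff_exact f g) (diff_surjective f g hg)).apply_apply_eq_zero x,
    eq_comm, ← map_zero (Algebra.TensorProduct.map (AlgHom.id R' R') f)] at h3
  have h4 := hf h3
  refine LinearMap.lTensor_injective_of_exact_of_flat (diff f g) (diff_surjective f g hg) _
    Subtype.val_injective (diff_exact f g) R' ?_
  rw [map_zero]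
  refine (TensorProduct.prodRight R R R' B A).injective ?_
  rw [map_zero, h2]
  exact Prod.ext h4 rfl

/-- A faithfully flat map stays injective after base change. -/
theorem map_injective (B C : Type u) [CommRing B] [CommRing C] [Algebra R B] [Algebra R C] [Algebra B C]
    [IsScalarTower R B C] [Module.Finite B C] [Module.Flat B C] (h : Function.Injective (algebraMap B C)) :
    Function.Injective (Algebra.TensorProduct.map (AlgHom.id R' R') (IsScalarTower.toAlgHom R B C)) := by
  haveI : FaithfulSMul B C := (faithfulSMul_iff_algebraMap_injective B C).2 h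
  haveI : Module.FaithfullyFlat B C :=
    Module.FaithfullyFlat.of_comap_surjective fun p => Algebra.IsIntegral.comap_surjective B C p
  have h1 : ∀ y : R' ⊗[R] B, ((TensorProduct.AlgebraTensorModule.cancelBaseChange R B B C R')
      ((1 : C) ⊗ₜ[B] ((TensorProduct.comm R R' B) y))) =
      (TensorProduct.comm R R' C) (Algebra.TensorProduct.map (AlgHom.id R' R') (IsScalarTower.toAlgHom R B C) y) :=
    fun y => by
    induction y using TensorProduct.induction_on with
    | zero => simp
    | tmul r b => simp [Algebra.smul_def]
    | add a b ha hb => simp only [map_add, tmul_add, ha, hb]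
  intro y z hyz
  refine (TensorProduct.comm R R' B).injective (Module.FaithfullyFlat.tensorProduct_mk_injective (A := B) (B := C) (B ⊗[R] R') ?_)
  refine (TensorProduct.AlgebraTensorModule.cancelBaseChange R B B C R').injective ?_
  rw [TensorProduct.mk_apply, TensorProduct.mk_apply, h1, h1, hyz]

end Groth.Agent.PushoutRing
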